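import Groth.Agent.CI.Criterion
import Groth.Agent.Ega4Algebra1.ExcellentLoc
import Groth.Agent.KoszulLCI.Pres
import Groth.Agent.FrobLCI.RegularSpread

/-!
# Complete intersection local rings: transport, and the locus in quotients of regular rings
-/

set_option autoImplicit false

universe u

namespace Groth.CI

open IsLocalRing RingTheory.Sequence

/-- Complete intersection is invariant under isomorphism. -/
theorem isCompleteIntersection_of_ringEquiv {A B : Type u} [CommRing A] [CommRing B] [IsLocalRing A]
    [IsLocalRing B] (e : A ≃+* B) (h : Pi1.IsCompleteIntersection A) :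
    Pi1.IsCompleteIntersection B := by
  obtain ⟨C, _, _, rs, hmem, hreg, ⟨e'⟩⟩ := h
  let ê : AdicCompletion (maximalIdeal A) A ≃+* AdicCompletion (maximalIdeal B) B :=
    RingEquiv.ofRingHom (Groth.Ega4Algebra1.cplMap e) (Groth.Ega4Algebra1.cplMap e.symm)
      (RingHom.ext fun x => Groth.Ega4Algebra1.cplMap_symm_cplMap e.symm x)
      (RingHom.ext fun x => Groth.Ega4Algebra1.cplMap_symm_cplMap e x)
  exact ⟨C, _, inferInstance, rs, hmem, hreg, ⟨ê.symm.trans e'⟩⟩

/-- Complete intersections in terms of any surjection from a regular local ring. -/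
theorem isCompleteIntersection_iff_of_surjective {R A : Type u} [CommRing R] [IsRegularLocalRing R]
    [CommRing A] [IsLocalRing A] (π : R →+* A) (hπ : Function.Surjective π) :
    Pi1.IsCompleteIntersection A ↔ ∃ rs : List R, Ideal.ofList rs = RingHom.ker π ∧ IsRegular R rs := by
  let e := RingHom.quotientKerEquivOfSurjective hπ
  have : IsLocalRing (R ⧸ RingHom.ker π) := e.symm.isLocalRing
  rw [← isCompleteIntersection_quotient_iff _ (RingHom.ker_ne_top π)]
  exact ⟨isCompleteIntersection_of_ringEquiv e.symm, isCompleteIntersection_of_ringEquiv e⟩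

/-- A regular local ring is a complete intersection. -/
theorem isCompleteIntersection_of_isRegularLocalRing {A : Type u} [CommRing A] [IsRegularLocalRing A] :
    Pi1.IsCompleteIntersection A := by
  refine (isCompleteIntersection_iff_of_surjective (RingHom.id A) Function.surjective_id).mpr ⟨[], ?_, ?_⟩
  · rw [Ideal.ofList_nil]
    exact ((RingHom.injective_iff_ker_eq_bot _).mp Function.injective_id).symm
  · exact (IsLocalRing.isRegular_iff_isWeaklyRegular_of_subset_maximalIdeal (by simp)).mpr (.nil A A)

variable {B A : Type u} [CommRing B] [CommRing A]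

/-- Complete intersection at a point of a closed subscheme of a regular scheme. -/
theorem isCompleteIntersection_atPrime_iff [IsRegularRing B] (π : B →+* A) (hπ : Function.Surjective π)
    (p : Ideal A) [p.IsPrime] :
    Pi1.IsCompleteIntersection (Localization.AtPrime p) ↔
      ∃ rs : List (Localization.AtPrime (p.comap π)),
        Ideal.ofList rs = (RingHom.ker π).map (algebraMap B (Localization.AtPrime (p.comap π))) ∧
        IsRegular (Localization.AtPrime (p.comap π)) rs := by
  rw [isCompleteIntersection_iff_of_surjective _ (Groth.KoszulLCI.surjective_localRingHom π hπ p),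
    Groth.KoszulLCI.ker_localRingHom_eq_map π hπ p]

/-- The complete intersection locus of a closed subscheme of a regular scheme is open. -/
theorem exists_isCompleteIntersection_nhds [IsRegularRing B] (π : B →+* A) (hπ : Function.Surjective π)
    (p : Ideal A) [p.IsPrime] (h : Pi1.IsCompleteIntersection (Localization.AtPrime p)) :
    ∃ g ∉ p, ∀ (p' : Ideal A) [p'.IsPrime], g ∉ p' →
      Pi1.IsCompleteIntersection (Localization.AtPrime p') := by
  classical
  let q := p.comap π
  let loc := algebraMap B (Localization.AtPrime q)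
  obtain ⟨rs, hrsI, hrs⟩ := (isCompleteIntersection_atPrime_iff π hπ p).mp h
  have hy : ∀ x ∈ rs, ∃ y ∈ RingHom.ker π, Associated x (loc y) := fun x hx => by
    obtain ⟨⟨⟨y, hy⟩, s⟩, he⟩ := (IsLocalization.mem_map_algebraMap_iff q.primeCompl _).mp
      (hrsI.le (Ideal.subset_span hx))
    exact ⟨y, hy, (IsLocalization.map_units (Localization.AtPrime q) s).unit, he⟩
  choose! y hyI hy using hy
  let f : List B := rs.map y
  have hass : List.Forall₂ Associated rs (f.map loc) := by
    simp only [f, List.map_map]
    exact List.forall₂_map_right_iff.mpr (List.forall₂_same.mpr fun x hx => hy x hx)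
  obtain ⟨t, ht, hreg⟩ := Groth.FrobLCI.RegularSpread.exists_away q f
    (Groth.FrobLCI.RegularSpread.isWeaklyRegular_of_forall₂ hass hrs.toIsWeaklyRegular)
  obtain ⟨h₁, hh₁, h₁I⟩ := Groth.KoszulLCI.exists_away_generators (IsNoetherian.noetherian (RingHom.ker π))
    q f (by rw [Ideal.map_ofList, ← Groth.FrobLCI.RegularSpread.ofList_eq_of_forall₂ hass, hrsI])
  refine ⟨π (t * h₁), fun hm => (Ideal.IsPrime.mem_or_mem (inferInstance : q.IsPrime)
    (Ideal.mem_comap.mpr hm)).elim ht hh₁, fun p' _ hg => ?_⟩
  let q' := p'.comap π
  have htq : t ∉ q' := fun hm => hg (Ideal.mem_comap.mp (Ideal.mul_mem_right h₁ q' hm))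
  have hhq : h₁ ∉ q' := fun hm => hg (Ideal.mem_comap.mp (Ideal.mul_mem_left q' t hm))
  let loc' := algebraMap B (Localization.AtPrime q')
  have hu : IsUnit (loc' t) := IsLocalization.map_units (Localization.AtPrime q') (⟨t, htq⟩ : q'.primeCompl)
  let θ : Localization.Away t →+* Localization.AtPrime q' := IsLocalization.Away.lift t hu
  have hθ : θ.comp (algebraMap B _) = loc' := IsLocalization.Away.lift_comp t hu
  let _ := θ.toAlgebra
  have : Module.Flat (Localization.Away t) (Localization.AtPrime q') :=
    Groth.KoszulLCI.flat_of_isLocalization (Submonoid.powers t) θ hθ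
  have hwreg : IsWeaklyRegular (Localization.AtPrime q') (f.map loc') := by
    have h2 := (hreg t dvd_rfl).of_flat (S := Localization.AtPrime q')
    rwa [List.map_map, show (algebraMap (Localization.Away t) (Localization.AtPrime q')) ∘
      (algebraMap B (Localization.Away t)) = loc' from congrArg DFunLike.coe hθ] at h2
  have hI : (RingHom.ker π).map loc' = Ideal.ofList (f.map loc') := by
    rw [← Ideal.map_ofList]
    refine le_antisymm (Ideal.map_le_iff_le_comap.mpr fun x hx => ?_)
      (Ideal.map_mono (Ideal.span_le.mpr fun z hz => ?_))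
    · rw [Ideal.mem_comap, ← Ideal.unit_mul_mem_iff_mem _
        (IsLocalization.map_units (Localization.AtPrime q') (⟨h₁, hhq⟩ : q'.primeCompl)), ← map_mul]
      exact Ideal.mem_map_of_mem _ (h₁I x hx)
    · obtain ⟨x, hx, rfl⟩ := List.mem_map.mp hz
      exact hyI x hx
  refine (isCompleteIntersection_atPrime_iff π hπ p').mpr ⟨f.map loc', hI.symm,
    (IsLocalRing.isRegular_iff_isWeaklyRegular_of_subset_maximalIdeal fun x hx => ?_).mpr hwreg⟩
  have hker : RingHom.ker π ≤ q' := Ideal.ker_le_comap π
  exact ((Ideal.map_mono hker).trans Localization.AtPrime.map_eq_maximalIdeal.le)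
    (hI.ge (Ideal.subset_span hx))

end Groth.CI
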