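import Groth.Agent.CI.KoszulH1
import Groth.Agent.Calg6.CMSop
import Groth.Agent.Calg1.CompletionLocal
import Groth.Agent.Ega4Algebra2.CplQuot
import Groth.Prelude.Def_Pi1

/-!
# Complete intersection local rings

`A = R/I` with `R` regular local is a complete intersection iff `I` is generated by a regular sequence.
-/

set_option autoImplicit false

universe u

namespace Groth.CI

open IsLocalRing RingTheory.Sequence

theorem exists_list_generators {R : Type u} [CommRing R] [IsNoetherianRing R] (I : Ideal R) :
    ∃ l : List R, Ideal.ofList l = I ∧ l.length = I.spanFinrank := by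
  have fg : I.FG := IsNoetherian.noetherian _
  have hfin := Submodule.FG.finite_generators fg
  refine ⟨hfin.toFinset.toList, ?_, ?_⟩
  · refine Eq.trans ?_ (Submodule.span_generators I)
    exact congrArg Ideal.span (Set.ext fun x => by simp)
  · rw [Finset.length_toList, ← Set.ncard_eq_toFinset_card _ hfin, Submodule.FG.generators_ncard fg]

/-- `I` is generated by a regular sequence iff it has at most `dim R - dim R/I` generators. -/
theorem exists_regular_iff {R : Type u} [CommRing R] [IsRegularLocalRing R] (I : Ideal R) (hI : I ≠ ⊤) :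
    (∃ rs : List R, Ideal.ofList rs = I ∧ IsRegular R rs) ↔
      (I.spanFinrank : WithBot ℕ∞) + ringKrullDim (R ⧸ I) ≤ ringKrullDim R := by
  constructor
  · rintro ⟨rs, rfl, hrs⟩
    rw [← ringKrullDim_add_length_eq_ringKrullDim_of_isRegular rs hrs, add_comm]
    refine add_le_add le_rfl ?_
    classical
    have h1 : (Submodule.span R (↑rs.toFinset : Set R)).spanFinrank ≤ rs.toFinset.card := by
      rw [← Set.ncard_coe_finset]
      exact Submodule.spanFinrank_span_le_ncard_of_finite rs.toFinset.finite_toSet
    have h2 : Submodule.span R (↑rs.toFinset : Set R) = Ideal.ofList rs :=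
      congrArg Ideal.span (Set.ext fun x => by simp)
    rw [h2] at h1
    exact_mod_cast h1.trans rs.toFinset_card_le
  · intro h
    obtain ⟨l, hl, hlen⟩ := exists_list_generators I
    have hmem : ∀ x ∈ l, x ∈ maximalIdeal R := fun x hx =>
      le_maximalIdeal hI (hl ▸ Ideal.subset_span hx)
    refine ⟨l, hl, (IsLocalRing.isRegular_iff_isWeaklyRegular_of_subset_maximalIdeal hmem).mpr ?_⟩
    refine Groth.Calg6.isWeaklyRegular_of_supportDim_add_length_le l R
      (Groth.Calg6.isCohenMacaulayModule_of_isRegularLocalRing R) hmem ?_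
    rw [smul_eq_mul, Ideal.mul_top, hl, Module.supportDim_quotient_eq_ringKrullDim,
      Module.supportDim_self_eq_ringKrullDim, add_comm, hlen]
    exact h

theorem exists_nat_ringKrullDim (A : Type u) [CommRing A] [IsNoetherianRing A] [IsLocalRing A] :
    ∃ d : ℕ, ringKrullDim A = d := by
  have hne : ringKrullDim A ≠ ⊥ := ringKrullDim_ne_bot
  have hlt : ringKrullDim A < ⊤ := ringKrullDim_lt_top
  obtain ⟨a, ha⟩ := WithBot.ne_bot_iff_exists.mp hne
  rw [← ha] at hlt ⊢
  induction a with
  | top => exact absurd hlt (lt_irrefl _)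
  | coe n => exact ⟨n, rfl⟩

/-- For a surjection from a regular local ring, whether the kernel is generated by a regular sequence
depends only on the target. -/
theorem exists_regular_ker_congr {A R R' : Type u} [CommRing A] [IsLocalRing A] [CommRing R]
    [IsRegularLocalRing R] [CommRing R'] [IsRegularLocalRing R'] (π : R →+* A)
    (hπ : Function.Surjective π) (π' : R' →+* A) (hπ' : Function.Surjective π')
    (h : ∃ rs : List R, Ideal.ofList rs = RingHom.ker π ∧ IsRegular R rs) :
    ∃ rs : List R', Ideal.ofList rs = RingHom.ker π' ∧ IsRegular R' rs := by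
  rw [exists_regular_iff _ (RingHom.ker_ne_top _),
    ringKrullDim_eq_of_ringEquiv (RingHom.quotientKerEquivOfSurjective hπ)] at h
  rw [exists_regular_iff _ (RingHom.ker_ne_top _),
    ringKrullDim_eq_of_ringEquiv (RingHom.quotientKerEquivOfSurjective hπ')]
  have : IsNoetherianRing A := isNoetherianRing_of_surjective R A π hπ
  obtain ⟨d, hd⟩ := exists_nat_ringKrullDim A
  have h1 := spanFinrank_ker_add_eq π hπ π' hπ'
  rw [hd, ← IsRegularLocalRing.spanFinrank_maximalIdeal] at h ⊢
  norm_cast at h ⊢
  omega

theorem isRegular_map_of_ringEquiv {R S : Type u} [CommRing R] [CommRing S] (e : R ≃+* S)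
    {rs : List R} (h : IsRegular R rs) : IsRegular S (rs.map e) :=
  (e.toAddEquiv.isRegular_congr (List.forall₂_map_right_iff.mpr (List.forall₂_same.mpr
    fun r _ x => show e (r * x) = e r * e x from map_mul e r x))).mp h

/-- A generating set can be descended from the completion. -/
theorem spanFinrank_le_spanFinrank_map_completion {R : Type u} [CommRing R] [IsNoetherianRing R]
    [IsLocalRing R] (I : Ideal R) :
    I.spanFinrank ≤ (I.map (algebraMap R (AdicCompletion (maximalIdeal R) R))).spanFinrank := by
  classical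
  let C := AdicCompletion (maximalIdeal R) R
  have : IsNoetherianRing C :=
    Groth.Calg1.isNoetherianRing_adicCompletion _ (IsNoetherian.noetherian (maximalIdeal R))
  have : Module.FaithfullyFlat R C := Module.FaithfullyFlat.of_flat_of_isLocalHom
  obtain ⟨g, hg, -⟩ := exists_list_generators I
  obtain ⟨y, hy, hylen⟩ := exists_list_generators (I.map (algebraMap R C))
  have happ : ∀ z ∈ I.map (algebraMap R C), ∃ z' ∈ I,
      z - algebraMap R C z' ∈ maximalIdeal C * I.map (algebraMap R C) := by
    intro z hz
    refine Submodule.span_induction (p := fun z _ => ∃ z' ∈ I,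
      z - algebraMap R C z' ∈ maximalIdeal C * I.map (algebraMap R C)) ?_ ?_ ?_ ?_ hz
    · rintro _ ⟨a, ha, rfl⟩
      exact ⟨a, ha, by simp⟩
    · exact ⟨0, zero_mem _, by simp⟩
    · rintro a b _ _ ⟨a', ha', h1⟩ ⟨b', hb', h2⟩
      refine ⟨a' + b', add_mem ha' hb', ?_⟩
      rw [map_add, add_sub_add_comm]
      exact add_mem h1 h2
    · rintro c a haI ⟨a', ha', h1⟩
      obtain ⟨r, hr⟩ := (AdicCompletion.residueField_map_bijective R).2 (residue C c)
      obtain ⟨r, rfl⟩ := residue_surjective r
      rw [ResidueField.map_residue] at hr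
      have hc : c - algebraMap R C r ∈ maximalIdeal C := Ideal.Quotient.eq.mp hr.symm
      refine ⟨r * a', Ideal.mul_mem_left _ _ ha', ?_⟩
      have : c • a - algebraMap R C (r * a') =
          (c - algebraMap R C r) * a + algebraMap R C r * (a - algebraMap R C a') := by
        rw [smul_eq_mul, map_mul]; ring
      rw [this]
      exact add_mem (Ideal.mul_mem_mul hc haI) (Ideal.mul_mem_left _ _ h1)
  choose! y' hy'I hy' using happ
  let J : Ideal R := Ideal.span (↑(y.map y').toFinset)
  have hJI : J ≤ I := Ideal.span_le.mpr fun x hx => by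
    obtain ⟨z, hz, rfl⟩ := List.mem_map.mp (List.mem_toFinset.mp hx)
    exact hy'I z (hy ▸ Ideal.subset_span hz)
  have hmap : I.map (algebraMap R C) ≤ J.map (algebraMap R C) := by
    refine Submodule.le_of_le_smul_of_le_jacobson_bot (I := maximalIdeal C) (IsNoetherian.noetherian _)
      (maximalIdeal_le_jacobson _) ?_
    refine hy.symm.le.trans (Ideal.span_le.mpr fun z hz => ?_)
    have hzI : z ∈ I.map (algebraMap R C) := hy ▸ Ideal.subset_span hz
    rw [show z = algebraMap R C (y' z) + (z - algebraMap R C (y' z)) by ring]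
    exact Submodule.add_mem_sup (Ideal.mem_map_of_mem _ (Ideal.subset_span
      (List.mem_toFinset.mpr (List.mem_map.mpr ⟨z, hz, rfl⟩)))) (hy' z hzI)
  have hIJ : I = J := by
    refine le_antisymm ?_ hJI
    have := Ideal.comap_mono (f := algebraMap R C) hmap
    rwa [Ideal.comap_map_eq_self_of_faithfullyFlat, Ideal.comap_map_eq_self_of_faithfullyFlat] at this
  rw [hIJ]
  calc J.spanFinrank ≤ (↑(y.map y').toFinset : Set R).ncard :=
        Submodule.spanFinrank_span_le_ncard_of_finite (Finset.finite_toSet _)
    _ ≤ (y.map y').length := by rw [Set.ncard_coe_finset]; exact List.toFinset_card_le _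
    _ = _ := by rw [List.length_map, hylen, hIJ]

/-- Complete intersections in terms of a regular presentation. -/
theorem isCompleteIntersection_quotient_iff {R : Type u} [CommRing R] [IsRegularLocalRing R]
    (I : Ideal R) (hI : I ≠ ⊤) [IsLocalRing (R ⧸ I)] :
    Pi1.IsCompleteIntersection (R ⧸ I) ↔ ∃ rs : List R, Ideal.ofList rs = I ∧ IsRegular R rs := by
  have : Nontrivial (R ⧸ I) := Ideal.Quotient.nontrivial_iff.mpr hI
  let C := AdicCompletion (maximalIdeal R) R
  have hC : IsRegularLocalRing C := (Groth.Calg1.isRegularLocalRing_adicCompletion_iff R).mp ‹_›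
  have : Module.FaithfullyFlat R C := Module.FaithfullyFlat.of_flat_of_isLocalHom
  let q : C →+* AdicCompletion (maximalIdeal (R ⧸ I)) (R ⧸ I) := Groth.Ega4b.cplQuot R I
  have hq : Function.Surjective q := Groth.Ega4b.cplQuot_surjective R I
  have hkq : RingHom.ker q = I.map (algebraMap R C) := Groth.Ega4b.ker_cplQuot R I
  have hdim : ringKrullDim (C ⧸ I.map (algebraMap R C)) = ringKrullDim (R ⧸ I) := by
    rw [ringKrullDim_eq_of_ringEquiv ((Ideal.quotEquivOfEq hkq.symm).trans
      (RingHom.quotientKerEquivOfSurjective hq))]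
    exact Groth.Calg1.ringKrullDim_adicCompletion (R ⧸ I)
  constructor
  · rintro ⟨B, _, _, rs, hmem, hrs, ⟨e⟩⟩
    let π : B →+* AdicCompletion (maximalIdeal (R ⧸ I)) (R ⧸ I) :=
      e.symm.toRingHom.comp (Ideal.Quotient.mk _)
    have hπ : Function.Surjective π := e.symm.surjective.comp Ideal.Quotient.mk_surjective
    have hkπ : RingHom.ker π = Ideal.ofList rs := by
      rw [show π = e.symm.toRingHom.comp (Ideal.Quotient.mk _) from rfl,
        RingHom.ker_comp_of_injective _ e.symm.injective, Ideal.mk_ker]
    obtain ⟨ts, hts, htsr⟩ := exists_regular_ker_congr π hπ q hq ⟨rs, hkπ.symm, hrs⟩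
    rw [hkq] at hts
    rw [exists_regular_iff I hI]
    have h := (exists_regular_iff _ (hkq ▸ RingHom.ker_ne_top q)).mp ⟨ts, hts, htsr⟩
    rw [hdim, Groth.Calg1.ringKrullDim_adicCompletion] at h
    exact le_trans (add_le_add (by exact_mod_cast spanFinrank_le_spanFinrank_map_completion I) le_rfl) h
  · rintro ⟨rs, hrs, hreg⟩
    have hreg' : IsRegular C (rs.map (algebraMap R C)) := hreg.of_faithfullyFlat
    refine ⟨C, inferInstance, hC, rs.map (algebraMap R C), fun x hx => ?_, hreg', ?_⟩
    · obtain ⟨r, hr, rfl⟩ := List.mem_map.mp hx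
      rw [AdicCompletion.maximalIdeal_eq_map]
      exact Ideal.mem_map_of_mem _ (le_maximalIdeal hI (hrs ▸ Ideal.subset_span hr))
    · refine ⟨(RingHom.quotientKerEquivOfSurjective hq).symm.trans (Ideal.quotEquivOfEq ?_)⟩
      rw [hkq, ← hrs, Ideal.map_ofList]

end Groth.CI
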