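import Groth.Agent.Ega4Algebra2.RegularIdeal
import Groth.Agent.Ega4Algebra1.RegularParams
import Mathlib.RingTheory.Length

/-!
# Relations among generators of the maximal ideal, and independence of regular presentations

For a surjection `π : R →+* A` from a regular local ring, the relations modulo the trivial relations
among the images of a regular system of parameters have length `μ(ker π)`.  As a consequence
`μ(ker π) - dim R` depends only on `A`.
-/

set_option autoImplicit false

universe u v w

namespace Groth.CI

open IsLocalRing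

variable {A : Type u} [CommRing A]

section

variable {ι : Type v} {κ : Type w} [Fintype ι] [Fintype κ] [DecidableEq ι] [DecidableEq κ]

/-- The trivial relations. -/
def triv (x : ι → A) : Submodule A (ι → A) :=
  Submodule.span A {v | ∃ i j, v = Pi.single i (x j) - Pi.single j (x i)}

theorem triv_mem (x : ι → A) (i j : ι) :
    (Pi.single i (x j) - Pi.single j (x i) : ι → A) ∈ triv x :=
  Submodule.subset_span ⟨i, j, rfl⟩

/-- Relations modulo trivial relations. -/
abbrev H1 (x : ι → A) : Type _ :=
  ↥(LinearMap.ker (Fintype.linearCombination A x)) ⧸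
    (triv x).comap (LinearMap.ker (Fintype.linearCombination A x)).subtype

theorem length_H1_comp (x : ι → A) (e : κ ≃ ι) :
    Module.length A (H1 (x ∘ e)) = Module.length A (H1 x) := by
  let L : (ι → A) ≃ₗ[A] (κ → A) := LinearEquiv.funCongrLeft A A e
  have hlc : ∀ v : ι → A, Fintype.linearCombination A (x ∘ e) (L v) = Fintype.linearCombination A x v :=
    fun v => by
      rw [Fintype.linearCombination_apply, Fintype.linearCombination_apply]
      exact Fintype.sum_equiv e _ _ fun k => rfl
  let K : ↥(LinearMap.ker (Fintype.linearCombination A x)) ≃ₗ[A]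
      ↥(LinearMap.ker (Fintype.linearCombination A (x ∘ e))) :=
    { toFun := fun v => ⟨L v, by rw [LinearMap.mem_ker, hlc]; exact v.2⟩
      map_add' := fun v w => Subtype.ext (map_add L _ _)
      map_smul' := fun c v => Subtype.ext (map_smul L c _)
      invFun := fun v => ⟨L.symm v, by rw [LinearMap.mem_ker, ← hlc, L.apply_symm_apply]; exact v.2⟩
      left_inv := fun v => Subtype.ext (L.symm_apply_apply _)
      right_inv := fun v => Subtype.ext (L.apply_symm_apply _) }
  have hsingle : ∀ i a, L (Pi.single i a) = Pi.single (e.symm i) a := fun i a => funext fun k => by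
    show (Pi.single i a : ι → A) (e k) = _
    simp only [Pi.single_apply, e.eq_symm_apply]
  have hsingle' : ∀ k a, L.symm (Pi.single k a) = Pi.single (e k) a := fun k a =>
    L.symm_apply_eq.mpr (by rw [hsingle, e.symm_apply_apply])
  have ht : ((triv x).comap (LinearMap.ker (Fintype.linearCombination A x)).subtype).map K.toLinearMap =
      (triv (x ∘ e)).comap (LinearMap.ker (Fintype.linearCombination A (x ∘ e))).subtype := by
    have h1 : triv (x ∘ e) = (triv x).map L.toLinearMap := by
      refine le_antisymm (Submodule.span_le.mpr ?_) ?_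
      · rintro _ ⟨i, j, rfl⟩
        refine ⟨_, triv_mem x (e i) (e j), ?_⟩
        rw [LinearEquiv.coe_coe, map_sub, hsingle, hsingle, e.symm_apply_apply, e.symm_apply_apply]
        rfl
      · rw [triv, Submodule.map_span, Submodule.span_le]
        rintro _ ⟨_, ⟨i, j, rfl⟩, rfl⟩
        rw [LinearEquiv.coe_coe, map_sub, hsingle, hsingle]
        have := triv_mem (x ∘ e) (e.symm i) (e.symm j)
        simpa using this
    ext v
    rw [Submodule.mem_map_equiv, Submodule.mem_comap, Submodule.mem_comap, h1, Submodule.mem_map_equiv]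
    rfl
  exact ((Submodule.Quotient.equiv _ _ K ht).length_eq).symm

/-- Adding redundant generators adds one to the length for each of them. -/
theorem length_H1_sum [IsLocalRing A] (x : ι → A) (hx : Ideal.span (Set.range x) = maximalIdeal A)
    (y : κ → A) (hy : ∀ k, y k ∈ maximalIdeal A) :
    Module.length A (H1 (Sum.elim x y)) = Module.length A (H1 x) + Fintype.card κ := by
  have hc : ∀ k, ∃ c : ι → A, ∑ i, c i * x i = y k := fun k =>
    Ideal.mem_span_range_iff_exists_fun.mp (hx ▸ hy k)
  choose c hc using hc
  let p : (ι ⊕ κ → A) →ₗ[A] (ι → A) :=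
    { toFun := fun v i => v (Sum.inl i) + ∑ k, v (Sum.inr k) * c k i
      map_add' := fun v w => funext fun i => by
        simp only [Pi.add_apply, add_mul, Finset.sum_add_distrib]; ring
      map_smul' := fun a v => funext fun i => by
        simp only [Pi.smul_apply, smul_eq_mul, mul_add, Finset.mul_sum, RingHom.id_apply, mul_assoc] }
  have hp : ∀ v, Fintype.linearCombination A x (p v) = Fintype.linearCombination A (Sum.elim x y) v := by
    intro v
    simp only [Fintype.linearCombination_apply, Fintype.sum_sum_type, Sum.elim_inl, Sum.elim_inr,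
      smul_eq_mul, p, LinearMap.coe_mk, AddHom.coe_mk, add_mul, Finset.sum_add_distrib, Finset.sum_mul]
    congr 1
    rw [Finset.sum_comm]
    exact Finset.sum_congr rfl fun k _ => by
      rw [← hc k, Finset.mul_sum]; exact Finset.sum_congr rfl fun i _ => by ring
  let pK : ↥(LinearMap.ker (Fintype.linearCombination A (Sum.elim x y))) →ₗ[A]
      ↥(LinearMap.ker (Fintype.linearCombination A x)) :=
    LinearMap.codRestrict _ (p.comp (Submodule.subtype _)) fun v => by
      rw [LinearMap.mem_ker, LinearMap.comp_apply, hp]; exact v.2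
  let q : ↥(LinearMap.ker (Fintype.linearCombination A (Sum.elim x y))) →ₗ[A] (κ → A ⧸ maximalIdeal A) :=
    LinearMap.pi fun k => ((Ideal.Quotient.mkₐ A (maximalIdeal A)).toLinearMap.comp
      (LinearMap.proj (Sum.inr k))).comp (Submodule.subtype _)
  let Φ := (((triv x).comap (LinearMap.ker (Fintype.linearCombination A x)).subtype).mkQ.comp pK).prod q
  have hq : ∀ v k, q v k = Ideal.Quotient.mk (maximalIdeal A) (v.1 (Sum.inr k)) := fun _ _ => rfl
  have hsurj : Function.Surjective Φ := by
    rintro ⟨a, b⟩
    obtain ⟨⟨a, ha⟩, rfl⟩ := Submodule.mkQ_surjective _ a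
    choose b' hb' using fun k => Ideal.Quotient.mk_surjective (b k)
    let v : ι ⊕ κ → A := Sum.elim (fun i => a i - ∑ k, b' k * c k i) b'
    have hpv : p v = a := funext fun i => by simp [p, v]
    have hv : v ∈ LinearMap.ker (Fintype.linearCombination A (Sum.elim x y)) := by
      rw [LinearMap.mem_ker, ← hp, hpv]; exact ha
    refine ⟨⟨v, hv⟩, Prod.ext ?_ (funext fun k => (hq _ k).trans (hb' k))⟩
    show Submodule.Quotient.mk (pK ⟨v, hv⟩) = Submodule.Quotient.mk _
    exact congrArg _ (Subtype.ext hpv)
  have htriv : ∀ v ∈ triv (Sum.elim x y), p v ∈ triv x ∧ ∀ k, v (Sum.inr k) ∈ maximalIdeal A := by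
    intro v hv
    induction hv using Submodule.span_induction with
    | mem v hv =>
      obtain ⟨i, j, rfl⟩ := hv
      have hxm : ∀ i, x i ∈ maximalIdeal A := fun i => hx ▸ Ideal.subset_span ⟨i, rfl⟩
      refine ⟨?_, fun k => ?_⟩
      · rcases i with i | k <;> rcases j with j | l
        · convert triv_mem x i j using 1
          ext t; simp [p, Pi.single_apply]
        · have : p (Pi.single (Sum.inl i) (y l) - Pi.single (Sum.inr l) (x i)) =
              ∑ t, c l t • (Pi.single i (x t) - Pi.single t (x i) : ι → A) := by
            ext s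
            simp only [p, LinearMap.coe_mk, AddHom.coe_mk, Pi.sub_apply, Finset.sum_apply, Pi.smul_apply,
              smul_eq_mul, Pi.single_apply, mul_sub, Finset.sum_sub_distrib, mul_ite, mul_zero,
              Finset.sum_ite_eq, Finset.mem_univ, if_true]
            simp [← hc l, Finset.sum_ite_irrel, mul_comm, ← sub_eq_add_neg, ite_mul]
          rw [Sum.elim_inl, Sum.elim_inr, this]
          exact Submodule.sum_mem _ fun t _ => Submodule.smul_mem _ _ (triv_mem x i t)
        · have : p (Pi.single (Sum.inr k) (x j) - Pi.single (Sum.inl j) (y k)) =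
              ∑ t, c k t • (Pi.single t (x j) - Pi.single j (x t) : ι → A) := by
            ext s
            simp only [p, LinearMap.coe_mk, AddHom.coe_mk, Pi.sub_apply, Finset.sum_apply, Pi.smul_apply,
              smul_eq_mul, Pi.single_apply, mul_sub, Finset.sum_sub_distrib, mul_ite, mul_zero,
              Finset.sum_ite_eq, Finset.mem_univ, if_true]
            simp [← hc k, Finset.sum_ite_irrel, mul_comm, ite_mul, sub_eq_add_neg, add_comm]
          rw [Sum.elim_inl, Sum.elim_inr, this]
          exact Submodule.sum_mem _ fun t _ => Submodule.smul_mem _ _ (triv_mem x t j)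
        · have : p (Pi.single (Sum.inr k) (y l) - Pi.single (Sum.inr l) (y k)) =
              ∑ s, ∑ t, (c k s * c l t) • (Pi.single s (x t) - Pi.single t (x s) : ι → A) := by
            ext r
            simp only [p, LinearMap.coe_mk, AddHom.coe_mk, Pi.sub_apply, Finset.sum_apply, Pi.smul_apply,
              smul_eq_mul, Pi.single_apply, mul_sub, Finset.sum_sub_distrib, mul_ite, mul_zero]
            simp [← hc l, ← hc k, Finset.sum_ite_irrel, ite_mul, sub_mul, Finset.sum_sub_distrib,
              Finset.sum_mul, Finset.mul_sum]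
            congr 1 <;> exact Finset.sum_congr rfl fun t _ => by ring
          rw [Sum.elim_inr, Sum.elim_inr, this]
          exact Submodule.sum_mem _ fun s _ => Submodule.sum_mem _ fun t _ =>
            Submodule.smul_mem _ _ (triv_mem x s t)
      · have hm : ∀ s, Sum.elim x y s ∈ maximalIdeal A := fun s => Sum.rec hxm hy s
        simp only [Pi.sub_apply, Pi.single_apply]
        exact sub_mem (by split_ifs <;> simp [hm]) (by split_ifs <;> simp [hm])
    | zero => exact ⟨by simp, fun k => by simp⟩
    | add v w _ _ hv hw => exact ⟨by rw [map_add]; exact add_mem hv.1 hw.1, fun k => add_mem (hv.2 k) (hw.2 k)⟩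
    | smul a v _ hv => exact ⟨by rw [map_smul]; exact Submodule.smul_mem _ a hv.1, fun k => Ideal.mul_mem_left _ a (hv.2 k)⟩
  have hker : LinearMap.ker Φ = (triv (Sum.elim x y)).comap
      (LinearMap.ker (Fintype.linearCombination A (Sum.elim x y))).subtype := by
    refine le_antisymm ?_ ?_
    · intro v hv
      simp only [Φ, LinearMap.ker_prod, Submodule.mem_inf, LinearMap.mem_ker, LinearMap.comp_apply,
        Submodule.mkQ_apply, Submodule.Quotient.mk_eq_zero] at hv
      obtain ⟨h1, h2⟩ := hv
      have hb : ∀ k, ∃ d : ι → A, ∑ i, d i * x i = v.1 (Sum.inr k) := fun k =>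
        Ideal.mem_span_range_iff_exists_fun.mp (hx ▸ Ideal.Quotient.eq_zero_iff_mem.mp
          ((hq v k).symm.trans (congrFun h2 k)))
      choose d hd using hb
      let E : (ι → A) →ₗ[A] (ι ⊕ κ → A) :=
        { toFun := fun a => Sum.elim a 0
          map_add' := fun a b => funext fun s => by cases s <;> simp
          map_smul' := fun r a => funext fun s => by cases s <;> simp }
      have hE : ∀ a ∈ triv x, E a ∈ triv (Sum.elim x y) := fun a ha => by
        have := Submodule.mem_map_of_mem (f := E) ha
        rw [triv, Submodule.map_span] at this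
        refine Submodule.span_mono ?_ this
        rintro _ ⟨_, ⟨i, j, rfl⟩, rfl⟩
        exact ⟨Sum.inl i, Sum.inl j, funext fun s => by cases s <;> simp [E, Pi.single_apply]⟩
      let a' : ι → A := p v.1 + ∑ k, ∑ i, ∑ j, (d k i * c k j) •
        (Pi.single i (x j) - Pi.single j (x i) : ι → A)
      have ha' : a' ∈ triv x := add_mem h1 (Submodule.sum_mem _ fun k _ => Submodule.sum_mem _ fun i _ =>
        Submodule.sum_mem _ fun j _ => Submodule.smul_mem _ _ (triv_mem x i j))
      have : v.1 = E a' - ∑ k, ∑ i, d k i •
          (Pi.single (Sum.inl i) (y k) - Pi.single (Sum.inr k) (x i) : ι ⊕ κ → A) := by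
        ext s
        rcases s with t | l
        · simp only [E, a', p, LinearMap.coe_mk, AddHom.coe_mk, Pi.sub_apply, Sum.elim_inl,
            Pi.add_apply, Finset.sum_apply, Pi.smul_apply, smul_eq_mul, Pi.single_apply, mul_sub,
            Finset.sum_sub_distrib, mul_ite, mul_zero, Sum.inl.injEq, reduceCtorEq, if_false,
            Finset.sum_const_zero, sub_zero, Finset.sum_ite_irrel, Finset.sum_ite_eq, Finset.mem_univ,
            if_true]
          have e1 : ∀ k, ∑ j, d k t * c k j * x j = d k t * y k := fun k => by
            rw [← hc k, Finset.mul_sum]; exact Finset.sum_congr rfl fun j _ => by ring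
          have e2 : ∀ k, ∑ i, d k i * c k t * x i = v.1 (Sum.inr k) * c k t := fun k => by
            rw [← hd k, Finset.sum_mul]; exact Finset.sum_congr rfl fun j _ => by ring
          simp only [e1, e2]
          ring
        · simp only [E, LinearMap.coe_mk, AddHom.coe_mk, Pi.sub_apply, Sum.elim_inr, Pi.zero_apply,
            Finset.sum_apply, Pi.smul_apply, smul_eq_mul, Pi.single_apply, mul_sub,
            Finset.sum_sub_distrib, mul_ite, mul_zero, Sum.inr.injEq, reduceCtorEq, if_false,
            Finset.sum_const_zero, zero_sub, neg_neg, Finset.sum_ite_irrel, Finset.sum_ite_eq,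
            Finset.mem_univ, if_true]
          simp [← hd l, Finset.sum_ite_irrel, mul_neg, Finset.sum_neg_distrib, mul_ite]
      show v.1 ∈ triv (Sum.elim x y)
      rw [this]
      exact sub_mem (hE _ ha') (Submodule.sum_mem _ fun k _ => Submodule.sum_mem _ fun i _ =>
        Submodule.smul_mem _ _ (triv_mem (Sum.elim x y) (Sum.inl i) (Sum.inr k)))
    · intro v hv
      obtain ⟨h1, h2⟩ := htriv v.1 hv
      rw [LinearMap.mem_ker]
      exact Prod.ext ((Submodule.Quotient.mk_eq_zero _).mpr h1)
        (funext fun k => (hq v k).trans (Ideal.Quotient.eq_zero_iff_mem.mpr (h2 k)))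
  rw [((Submodule.quotEquivOfEq _ _ hker.symm).trans (Φ.quotKerEquivOfSurjective hsurj)).length_eq,
    Module.length_prod, Module.length_pi]
  have : IsSimpleModule A (A ⧸ maximalIdeal A) :=
    isSimpleModule_iff_quot_maximal.mpr ⟨_, maximalIdeal.isMaximal A, ⟨LinearEquiv.refl _ _⟩⟩
  simp

end

/-- The relations of a regular presentation. -/
theorem length_H1_eq_spanFinrank {R : Type u} [CommRing R] [IsRegularLocalRing R] [IsLocalRing A]
    (π : R →+* A) (hπ : Function.Surjective π) {n : ℕ} (hn : (maximalIdeal R).spanFinrank = n)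
    (x : Fin n → R) (hx : Ideal.span (Set.range x) = maximalIdeal R) :
    Module.length A (H1 (π ∘ x)) = (RingHom.ker π).spanFinrank := by
  classical
  let _ := π.toAlgebra
  let I := RingHom.ker π
  have hI : I ≤ maximalIdeal R := le_maximalIdeal (RingHom.ker_ne_top π)
  let N := (maximalIdeal R • ⊤ : Submodule R I)
  let lc := Fintype.linearCombination R x
  let P : Submodule R (Fin n → R) := Submodule.comap lc I
  let red : (Fin n → R) →ₗ[R] (Fin n → A) :=
    LinearMap.pi fun i => (Algebra.linearMap R A).comp (LinearMap.proj i)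
  have hred : ∀ a, Fintype.linearCombination A (π ∘ x) (red a) = π (lc a) := fun a => by
    simp [lc, red, Fintype.linearCombination_apply, RingHom.algebraMap_toAlgebra]
  let ψ : P →ₗ[R] H1 (π ∘ x) :=
    ((((triv (π ∘ x)).comap (LinearMap.ker (Fintype.linearCombination A (π ∘ x))).subtype).mkQ).restrictScalars R).comp
      (LinearMap.codRestrict ((LinearMap.ker (Fintype.linearCombination A (π ∘ x))).restrictScalars R)
        (red.comp P.subtype) fun a => by
          show red a.1 ∈ LinearMap.ker _
          rw [LinearMap.mem_ker, hred]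
          exact a.2)
  let φ : P →ₗ[R] I := lc.restrict fun _ h => h
  have hψs : Function.Surjective ψ := by
    intro h
    obtain ⟨⟨b, hb⟩, rfl⟩ := Submodule.mkQ_surjective _ h
    choose a ha using fun i => hπ (b i)
    have hra : red a = b := funext ha
    have haP : a ∈ P := by
      show lc a ∈ RingHom.ker π
      rw [RingHom.mem_ker, ← hred, hra]
      exact LinearMap.mem_ker.mp hb
    refine ⟨⟨a, haP⟩, ?_⟩
    show Submodule.Quotient.mk _ = Submodule.Quotient.mk _
    exact congrArg _ (Subtype.ext hra)
  have hφs : Function.Surjective φ := by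
    rintro ⟨y, hy⟩
    obtain ⟨a, ha⟩ := Ideal.mem_span_range_iff_exists_fun.mp (hx ▸ hI hy)
    refine ⟨⟨a, ?_⟩, Subtype.ext ?_⟩
    · show lc a ∈ I
      simpa [lc, Fintype.linearCombination_apply, ha] using hy
    · show lc a = y
      simpa [lc, Fintype.linearCombination_apply] using ha
  have hrel : ∀ a : Fin n → R, lc a = 0 → a ∈ triv x := by
    intro a ha
    have := Groth.Ega4b.mem_trivRel_of_isWeaklyRegular (M := R) x
      (Groth.Ega4Algebra1.isWeaklyRegular_of_span_eq n R hn x hx) a (by
        rw [← ha]; simp [lc, Fintype.linearCombination_apply, mul_comm])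
    refine Submodule.span_le.mpr ?_ this
    rintro _ ⟨i, j, t, rfl⟩
    have h2 : (x j • (Pi.single i t : Fin n → R) - x i • (Pi.single j t : Fin n → R)) =
        t • (Pi.single i (x j) - Pi.single j (x i) : Fin n → R) := by
      ext s
      simp only [Pi.sub_apply, Pi.smul_apply, smul_eq_mul, Pi.single_apply, mul_ite, mul_zero, mul_sub]
      split_ifs <;> ring
    rw [h2]
    exact Submodule.smul_mem _ _ (triv_mem x i j)
  have hker : LinearMap.ker (N.mkQ.comp φ) = LinearMap.ker ψ := by
    ext ⟨a, ha⟩
    simp only [LinearMap.mem_ker, LinearMap.comp_apply, Submodule.mkQ_apply,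
      Submodule.Quotient.mk_eq_zero]
    refine Iff.trans ?_ (show red a ∈ triv (π ∘ x) ↔ ψ ⟨a, ha⟩ = 0 from by
        exact (Submodule.Quotient.mk_eq_zero ((triv (π ∘ x)).comap (LinearMap.ker (Fintype.linearCombination A (π ∘ x))).subtype)
          (x := ⟨red a, LinearMap.mem_ker.mpr ((hred a).trans ha)⟩)).symm)
    constructor
    · intro h
      obtain ⟨b, hb, hab⟩ : ∃ b : Fin n → R, (∀ i, b i ∈ I) ∧ lc b = lc a := by
        have h' : lc a ∈ maximalIdeal R • I := by
          have := Submodule.mem_map_of_mem (f := I.subtype) h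
          rwa [Submodule.map_smul'', Submodule.map_subtype_top] at this
        generalize lc a = z at h'
        induction h' using Submodule.smul_induction_on' with
        | smul r hr y hy =>
          obtain ⟨d, rfl⟩ := Ideal.mem_span_range_iff_exists_fun.mp (hx ▸ hr)
          refine ⟨fun i => d i * y, fun i => Ideal.mul_mem_left _ _ hy, ?_⟩
          simp [lc, Fintype.linearCombination_apply, Finset.sum_mul, mul_assoc, mul_comm y]
        | add z _ w _ hz hw =>
          obtain ⟨b, hb, rfl⟩ := hz
          obtain ⟨b', hb', rfl⟩ := hw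
          exact ⟨b + b', fun i => add_mem (hb i) (hb' i), map_add _ _ _⟩
      have h2 := Submodule.mem_map_of_mem (f := red) (hrel (a - b) (by rw [map_sub, hab, sub_self]))
      have h3 : red b = 0 := funext fun i => RingHom.mem_ker.mp (hb i)
      rw [map_sub, h3, sub_zero, triv, Submodule.map_span] at h2
      refine Submodule.span_le_restrictScalars R A _ (Submodule.span_mono ?_ h2)
      rintro _ ⟨_, ⟨i, j, rfl⟩, rfl⟩
      refine ⟨i, j, funext fun s => ?_⟩
      simp [red, Pi.single_apply, RingHom.algebraMap_toAlgebra, apply_ite π]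
    · intro h
      have key : ∀ w ∈ triv (π ∘ x), ∃ b : Fin n → R, lc b = 0 ∧ red b = w := by
        intro w hw
        induction hw using Submodule.span_induction with
        | mem w hw =>
          obtain ⟨i, j, rfl⟩ := hw
          refine ⟨Pi.single i (x j) - Pi.single j (x i), ?_, funext fun s => ?_⟩
          · simp [lc, Fintype.linearCombination_apply, sub_mul, Finset.sum_sub_distrib, Pi.single_apply, mul_comm, mul_sub, mul_ite]
          · simp [red, Pi.single_apply, RingHom.algebraMap_toAlgebra, apply_ite π]
        | zero => exact ⟨0, map_zero _, map_zero _⟩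
        | add v w _ _ hv hw =>
          obtain ⟨b, hb, rfl⟩ := hv
          obtain ⟨b', hb', rfl⟩ := hw
          exact ⟨b + b', by rw [map_add, hb, hb', add_zero], map_add _ _ _⟩
        | smul r v _ hv =>
          obtain ⟨b, hb, rfl⟩ := hv
          obtain ⟨r, rfl⟩ := hπ r
          exact ⟨r • b, by rw [map_smul, hb, smul_zero], by rw [map_smul]; exact (algebraMap_smul A r (red b)).symm⟩
      obtain ⟨b, hb, hrb⟩ := key _ h
      have hc : ∀ i, a i - b i ∈ I := fun i => by
        rw [RingHom.mem_ker, map_sub, sub_eq_zero]
        exact (congrFun hrb i).symm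
      have : φ ⟨a, ha⟩ = ∑ i, x i • (⟨a i - b i, hc i⟩ : I) := by
        refine Subtype.ext ?_
        show lc a = _
        rw [← sub_zero (lc a), ← hb, ← map_sub]
        simp [lc, Fintype.linearCombination_apply, mul_comm]
      rw [this]
      exact Submodule.sum_mem _ fun i _ =>
        Submodule.smul_mem_smul (hx ▸ Ideal.subset_span ⟨i, rfl⟩) trivial
  let e : (I ⧸ N) ≃ₗ[R] H1 (π ∘ x) :=
    ((N.mkQ.comp φ).quotKerEquivOfSurjective ((Submodule.mkQ_surjective N).comp hφs)).symm.trans
      ((Submodule.quotEquivOfEq _ _ hker).trans (ψ.quotKerEquivOfSurjective hψs))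
  rw [← Module.length_eq_of_surjective (S := R) hπ, ← e.length_eq]
  let _ : Module (R ⧸ maximalIdeal R) (I ⧸ N) :=
    inferInstanceAs (Module (R ⧸ maximalIdeal R) (I ⧸ maximalIdeal R • (⊤ : Submodule R I)))
  have : IsScalarTower R (R ⧸ maximalIdeal R) (I ⧸ N) :=
    inferInstanceAs (IsScalarTower R (R ⧸ maximalIdeal R) (I ⧸ maximalIdeal R • (⊤ : Submodule R I)))
  let _ : Field (R ⧸ maximalIdeal R) := Ideal.Quotient.field _
  have : Module.Finite (R ⧸ maximalIdeal R) (I ⧸ N) :=
    Module.Finite.of_restrictScalars_finite R _ _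
  rw [Module.length_eq_of_surjective (R := R ⧸ maximalIdeal R) (S := R) Ideal.Quotient.mk_surjective,
    Module.length_eq_finrank, IsLocalRing.spanFinrank_eq_finrank_quotient _ (IsNoetherian.noetherian I)]

/-- `μ(ker π) - dim R` does not depend on the regular presentation. -/
theorem spanFinrank_ker_add_eq {R R' : Type u} [CommRing R] [IsRegularLocalRing R] [CommRing R']
    [IsRegularLocalRing R'] [IsLocalRing A] (π : R →+* A) (hπ : Function.Surjective π)
    (π' : R' →+* A) (hπ' : Function.Surjective π') :
    (RingHom.ker π).spanFinrank + (maximalIdeal R').spanFinrank =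
      (RingHom.ker π').spanFinrank + (maximalIdeal R).spanFinrank := by
  classical
  have gen : ∀ (S : Type u) [CommRing S] [IsRegularLocalRing S],
      ∃ x : Fin (maximalIdeal S).spanFinrank → S, Ideal.span (Set.range x) = maximalIdeal S := by
    intro S _ _
    have fg : (maximalIdeal S).FG := IsNoetherian.noetherian _
    have hfin := Submodule.FG.finite_generators fg
    have hcard : hfin.toFinset.card = (maximalIdeal S).spanFinrank := by
      rw [← Set.ncard_eq_toFinset_card _ hfin, Submodule.FG.generators_ncard fg]
    let e := hfin.toFinset.equivFinOfCardEq hcard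
    refine ⟨fun i => (e.symm i : S), ?_⟩
    rw [show Set.range (fun i => (e.symm i : S)) = Submodule.generators (maximalIdeal S) from ?_]
    · exact Submodule.span_generators _
    · ext s
      refine ⟨?_, fun hs => ⟨e ⟨s, hfin.mem_toFinset.2 hs⟩, by simp⟩⟩
      rintro ⟨i, rfl⟩
      exact hfin.mem_toFinset.1 (e.symm i).2
  obtain ⟨x, hx⟩ := gen R
  obtain ⟨x', hx'⟩ := gen R'
  have hm : ∀ {S : Type u} [CommRing S] [IsRegularLocalRing S] (f : S →+* A),
      Function.Surjective f → ∀ {n} (z : Fin n → S), Ideal.span (Set.range z) = maximalIdeal S →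
      Ideal.span (Set.range (f ∘ z)) = maximalIdeal A := by
    intro S _ _ f hf n z hz
    rw [Set.range_comp, ← Ideal.map_span, hz]
    exact IsLocalRing.map_maximalIdeal_of_surjective f hf
  have h1 := length_H1_sum (π ∘ x) (hm π hπ x hx) (π' ∘ x') fun k =>
    (hm π' hπ' x' hx') ▸ Ideal.subset_span ⟨k, rfl⟩
  have h2 := length_H1_sum (π' ∘ x') (hm π' hπ' x' hx') (π ∘ x) fun k =>
    (hm π hπ x hx) ▸ Ideal.subset_span ⟨k, rfl⟩
  rw [← length_H1_comp (Sum.elim (π ∘ x) (π' ∘ x')) (Equiv.sumComm _ _)] at h1
  rw [show Sum.elim (π ∘ x) (π' ∘ x') ∘ Equiv.sumComm _ _ = Sum.elim (π' ∘ x') (π ∘ x) from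
    funext fun s => by cases s <;> rfl] at h1
  rw [h1, length_H1_eq_spanFinrank π hπ rfl x hx, length_H1_eq_spanFinrank π' hπ' rfl x' hx',
    Fintype.card_fin, Fintype.card_fin] at h2
  exact_mod_cast h2

end Groth.CI
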